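import Groth.Agent.Pi1Desc.Fpqc
import Groth.Agent.EtaleBase.FpqcDescent

/-!
# Descent of closed subschemes along covers (flat, surjective, quasi-compact or fppf)
-/

universe u

set_option autoImplicit false
set_option backward.isDefEq.respectTransparency false

open CategoryTheory Limits AlgebraicGeometry TopologicalSpace

namespace Groth.Pi1Desc

variable {X S : Scheme.{u}}

/-- An affine scheme covering an affine open through a cover. -/
theorem exists_affine_over (p : X ⟶ S) [IsCover p] {O : S.Opens} (hO : IsAffineOpen O) :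
    ∃ (X' : Scheme.{u}) (f : X' ⟶ (p ⁻¹ᵁ O).toScheme), IsAffine X' ∧ Flat (f ≫ p ∣_ O) ∧
      Surjective (f ≫ p ∣_ O) ∧ QuasiCompact (f ≫ p ∣_ O) := by
  haveI : IsAffine (Scheme.Opens.toScheme O) := hO
  obtain ⟨n, c, k, W, hWa, -, hWO, hcov⟩ := exists_affine_refinement (p := p) hO
    (κ := fun _ => PUnit.{1}) (fun _ _ => ⊤) (fun _ => ⟨PUnit.unit, trivial⟩)
  haveI : ∀ l, IsAffine (W l).toScheme := hWa
  let Y : Fin n → Scheme.{u} := fun l => (W l).toScheme
  let a : ∀ l, Y l ⟶ (p ⁻¹ᵁ O).toScheme := fun l => X.homOfLE (hWO l)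
  haveI : Flat p := IsCover.flat
  haveI : Flat (p ∣_ O) := IsZariskiLocalAtTarget.restrict ‹_› O
  haveI : Flat (Sigma.desc a) := IsZariskiLocalAtSource.sigmaDesc fun l => inferInstance
  haveI : IsAffine (∐ Y : Scheme.{u}) := inferInstance
  refine ⟨_, Sigma.desc a, inferInstance, inferInstance, ⟨fun y => ?_⟩,
    (quasiCompact_iff_compactSpace _).2 inferInstance⟩
  obtain ⟨l, x, hx, hxy⟩ := hcov (O.ι y) y.2
  refine ⟨Sigma.ι Y l ⟨x, hx⟩, O.ι.isOpenEmbedding.injective ?_⟩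
  rw [← Scheme.Hom.comp_apply, ← Scheme.Hom.comp_apply]
  simp only [Category.assoc, morphismRestrict_ι, Sigma.ι_desc_assoc, a, Scheme.homOfLE_ι_assoc]
  exact hxy

namespace Act

/-- Descent is effective for affine morphisms along covers. -/
theorem eff_of_isAffineHom_of_isCover {V : Scheme.{u}} {h : V ⟶ X} {p : X ⟶ S} [IsAffineHom h] [IsCover p]
    (A : Act h p) : A.Eff := by
  refine eff_of_cover fun z => ?_
  obtain ⟨_, ⟨O, hO, rfl⟩, hzO, -⟩ :=
    S.isBasis_affineOpens.exists_subset_of_mem_open (Set.mem_univ ((h ≫ p) z)) isOpen_univ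
  change S.Opens at O
  refine ⟨_, hzO, A.stable_preimage O, A.effOn_preimage ?_⟩
  haveI : IsAffine (Scheme.Opens.toScheme O) := hO
  haveI : IsAffineHom (h ∣_ (p ⁻¹ᵁ O)) :=
    MorphismProperty.of_isPullback (isPullback_morphismRestrict h (p ⁻¹ᵁ O)).flip ‹_›
  obtain ⟨X', f, _, _, _, _⟩ := exists_affine_over p hO
  haveI : IsAffineHom (pullback.snd (h ∣_ (p ⁻¹ᵁ O)) f) := MorphismProperty.pullback_snd _ _ ‹_›
  haveI : IsAffine (pullback (h ∣_ (p ⁻¹ᵁ O)) f) := isAffine_of_isAffineHom (pullback.snd (h ∣_ (p ⁻¹ᵁ O)) f)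
  exact Act.eff_of_refine _ (IsPullback.of_hasPullback _ f) (eff_of_isAffine _)

end Act

/-- Being a closed immersion may be checked after base change along a cover. -/
theorem isClosedImmersion_of_isPullback {Y Z : Scheme.{u}} {q : Y ⟶ Z} {i : Y ⟶ X} {j : Z ⟶ S} {p : X ⟶ S}
    [IsCover p] (sq : IsPullback q i j p) [IsClosedImmersion i] : IsClosedImmersion j := by
  refine IsZariskiLocalAtTarget.of_iSup_eq_top (P := @IsClosedImmersion) (fun O : S.affineOpens => O.1)
    (iSup_affineOpens_eq_top S) fun O => ?_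
  obtain ⟨X', f, _, hfl, hsu, hqc⟩ := exists_affine_over p O.2
  refine MorphismProperty.of_pullback_fst_of_descendsAlong (Q := (@Surjective ⊓ @Flat ⊓ @QuasiCompact :
    MorphismProperty Scheme.{u})) (f := f ≫ p ∣_ O.1) (g := j ∣_ O.1) ⟨⟨hsu, hfl⟩, hqc⟩ ?_
  let k : X' ⟶ X := f ≫ (p ⁻¹ᵁ O.1).ι
  have hk : (f ≫ p ∣_ O.1) ≫ O.1.ι = k ≫ p := by simp [k]
  have big := (IsPullback.of_hasPullback (f ≫ p ∣_ O.1) (j ∣_ O.1)).flip.paste_horiz
    (isPullback_morphismRestrict j O.1).flip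
  rw [hk] at big
  have hw : (pullback.snd (f ≫ p ∣_ O.1) (j ∣_ O.1) ≫ (j ⁻¹ᵁ O.1).ι) ≫ j =
      (pullback.fst (f ≫ p ∣_ O.1) (j ∣_ O.1) ≫ k) ≫ p := by
    rw [big.w]; simp [k]
  have top := IsPullback.of_right (h₁₁ := sq.lift _ _ hw) (h₁₂ := q) (v₁₂ := i) (h₂₁ := k) (h₂₂ := p)
    (v₁₁ := pullback.fst (f ≫ p ∣_ O.1) (j ∣_ O.1)) (v₁₃ := j)
    (by rw [sq.lift_fst]; exact big) (sq.lift_snd _ _ _) sq
  exact MorphismProperty.of_isPullback top ‹IsClosedImmersion i›

/-- Descent of closed subschemes along a cover. -/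
theorem exists_closed_descent {Y : Scheme.{u}} (p : X ⟶ S) [IsCover p] (i : Y ⟶ X) [IsClosedImmersion i]
    (hst : ∀ (T : Scheme.{u}) (v : T ⟶ Y) (x : T ⟶ X), v ≫ i ≫ p = x ≫ p → ∃ v', v' ≫ i = x) :
    ∃ (Z : Scheme.{u}) (j : Z ⟶ S) (q : Y ⟶ Z), IsClosedImmersion j ∧ IsPullback q i j p := by
  let A : Act i p :=
    { act := fun v x e => (hst _ v x e).choose
      act_hom := fun v x e => (hst _ v x e).choose_spec
      act_self := fun v x e hx => by
        rw [← cancel_mono i, (hst _ v x e).choose_spec, hx]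
      act_act := fun v x y e e' e'' => by
        refine (cancel_mono i).1 ?_
        exact ((hst _ _ y e'').choose_spec).trans ((hst _ v y e').choose_spec).symm
      act_comp := fun g v x e e' => by
        rw [← cancel_mono i, (hst _ _ _ e').choose_spec, Category.assoc, (hst _ v x e).choose_spec] }
  obtain ⟨Z, j, q, hpb, -⟩ := A.eff_of_isAffineHom_of_isCover
  exact ⟨Z, j, q, isClosedImmersion_of_isPullback hpb, hpb⟩

/-- A morphism factors through a monomorphism if it does so after a cover. -/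
theorem exists_lift_of_isCover {T T' Z : Scheme.{u}} (e : T' ⟶ T) [IsCover e] (j : Z ⟶ S) [Mono j]
    (x : T ⟶ S) (y : T' ⟶ Z) (h : y ≫ j = e ≫ x) : ∃ w : T ⟶ Z, w ≫ j = x := by
  haveI := IsCover.effectiveEpi e
  refine ⟨EffectiveEpi.desc e y fun g₁ g₂ hg => ?_, ?_⟩
  · rw [← cancel_mono j, Category.assoc, Category.assoc, h, reassoc_of% hg]
  · rw [← cancel_epi e, EffectiveEpi.fac_assoc, h]

end Groth.Pi1Desc
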